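import Mathlib

/-!
# Right exact functors out of finitely presented modules
-/

set_option autoImplicit false

universe u v' u'

namespace Groth.FPFunctor

open CategoryTheory Limits

variable {A : Type u} [CommRing A] {B : Type u'} [Category.{v'} B] [Preadditive B] {K : B}
  (κ : A →+* End K)

/-- Morphisms out of `K`, as a module. -/
@[nolint unusedArguments]
def HomM (_κ : A →+* End K) (X : B) := K ⟶ X

instance (X : B) : AddCommGroup (HomM κ X) := inferInstanceAs (AddCommGroup (K ⟶ X))

/-- Forget the module structure. -/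
abbrev HomM.out {X : B} (g : HomM κ X) : K ⟶ X := g

/-- Add the module structure. -/
abbrev HomM.mk {X : B} (g : K ⟶ X) : HomM κ X := g

instance (X : B) : Module A (HomM κ X) where
  smul a g := κ a ≫ g.out
  one_smul g := show κ 1 ≫ g.out = g.out by rw [map_one]; exact Category.id_comp _
  mul_smul a b g := show κ (a * b) ≫ g.out = κ a ≫ κ b ≫ g.out by
    rw [mul_comm, map_mul, End.mul_def, Category.assoc]
  smul_zero a := show κ a ≫ (0 : K ⟶ X) = 0 from comp_zero
  smul_add a g h := show κ a ≫ (g.out + h.out) = _ from Preadditive.comp_add _ _ _ _ _ _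
  add_smul a b g := show κ (a + b) ≫ g.out = κ a ≫ g.out + κ b ≫ g.out by
    rw [map_add, Preadditive.add_comp]
  zero_smul g := show κ 0 ≫ g.out = 0 by rw [map_zero, zero_comp]

theorem smul_def {X : B} (a : A) (g : HomM κ X) : (a • g).out = κ a ≫ g.out := rfl

/-- Postcomposition, as a linear map. -/
def post {X Y : B} (h : X ⟶ Y) : HomM κ X →ₗ[A] HomM κ Y where
  toFun g := g.out ≫ h
  map_add' _ _ := Preadditive.add_comp _ _ _ _ _ _
  map_smul' _ _ := Category.assoc _ _ _

/-- An object corepresenting linear maps from `M` into morphisms out of `K`. -/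
structure Corep (M : Type u) [AddCommGroup M] [Module A M] where
  /-- The object. -/
  pt : B
  /-- The universal map. -/
  η : M →ₗ[A] HomM κ pt
  /-- The morphism induced by a linear map. -/
  desc : ∀ {X : B}, (M →ₗ[A] HomM κ X) → (pt ⟶ X)
  fac : ∀ {X : B} (g : M →ₗ[A] HomM κ X) (m : M), (η m).out ≫ desc g = (g m).out
  ext : ∀ {X : B} {f g : pt ⟶ X}, (∀ m, (η m).out ≫ f = (η m).out ≫ g) → f = g

/-- Transport along a linear equivalence. -/
def Corep.ofEquiv {M N : Type u} [AddCommGroup M] [Module A M] [AddCommGroup N] [Module A N]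
    (c : Corep κ M) (e : N ≃ₗ[A] M) : Corep κ N where
  pt := c.pt
  η := c.η ∘ₗ e.toLinearMap
  desc g := c.desc (g ∘ₗ e.symm.toLinearMap)
  fac g m := by
    refine (c.fac _ _).trans ?_
    exact congrArg (fun x => (g x).out) (e.symm_apply_apply m)
  ext h := c.ext fun m => by
    have := h (e.symm m)
    simpa using this

variable [HasFiniteBiproducts B]

/-- The corepresenting object of a finite free module. -/
noncomputable def corepFree (n : ℕ) : Corep κ (Fin n → A) where
  pt := ⨁ fun _ : Fin n => K
  η := ∑ i, (LinearMap.proj i).smulRight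
    (HomM.mk κ (biproduct.ι (fun _ : Fin n => K) i))
  desc g := biproduct.desc fun i => (g (Pi.single i 1)).out
  fac {X} g v := by
    change HomM.out κ ((∑ i, (LinearMap.proj i).smulRight
      (HomM.mk κ (biproduct.ι (fun _ : Fin n => K) i))) v) ≫ _ = _
    have : g v = ∑ i, v i • g (Pi.single i 1) := by
      conv_lhs => rw [pi_eq_sum_univ' v]
      rw [map_sum]
      simp
    rw [LinearMap.sum_apply, this]
    change (∑ i, κ (v i) ≫ biproduct.ι (fun _ : Fin n => K) i) ≫ _ =
      ∑ i, κ (v i) ≫ (g (Pi.single i 1)).out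
    rw [Preadditive.sum_comp]
    exact Finset.sum_congr rfl fun i _ => by rw [Category.assoc, biproduct.ι_desc]
  ext {X f g} h := by
    refine biproduct.hom_ext' _ _ fun i => ?_
    have := h (Pi.single i 1 : Fin n → A)
    have e : (∑ j, (LinearMap.proj (R := A) (φ := fun _ : Fin n => A) j).smulRight
        (HomM.mk κ (biproduct.ι (fun _ : Fin n => K) j))) (Pi.single i 1 : Fin n → A) =
        (HomM.mk κ (biproduct.ι (fun _ : Fin n => K) i)) := by
      rw [LinearMap.sum_apply, Finset.sum_eq_single i]
      · rw [LinearMap.smulRight_apply, LinearMap.proj_apply, Pi.single_eq_same, one_smul]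
      · intro j _ hj
        rw [LinearMap.smulRight_apply, LinearMap.proj_apply, Pi.single_eq_of_ne hj, zero_smul]
      · simp
    rwa [e] at this

variable [HasCokernels B]

/-- The corepresenting object of a quotient by finitely many elements. -/
noncomputable def Corep.quot {M : Type u} [AddCommGroup M] [Module A M] (c : Corep κ M) {m : ℕ}
    (r : Fin m → M) : Corep κ (M ⧸ Submodule.span A (Set.range r)) where
  pt := cokernel (biproduct.desc fun j => (c.η (r j)).out)
  η := (Submodule.span A (Set.range r)).liftQ (post κ (cokernel.π _) ∘ₗ c.η) (by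
    rw [Submodule.span_le]
    rintro _ ⟨j, rfl⟩
    change (c.η (r j)).out ≫ cokernel.π _ = 0
    rw [← biproduct.ι_desc (fun j => (c.η (r j)).out) j, Category.assoc, cokernel.condition,
      comp_zero])
  desc {X} g := cokernel.desc _ (c.desc (g ∘ₗ Submodule.mkQ _)) (biproduct.hom_ext' _ _ fun j => by
    rw [biproduct.ι_desc_assoc, comp_zero, c.fac]
    exact (congrArg (fun q => HomM.out κ (g q)) ((Submodule.Quotient.mk_eq_zero _).mpr
      (Submodule.subset_span (Set.mem_range_self j)))).trans (congrArg (HomM.out κ) (map_zero g)))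
  fac {X} g q := by
    obtain ⟨m, rfl⟩ := Submodule.Quotient.mk_surjective _ q
    change ((c.η m).out ≫ cokernel.π _) ≫ _ = _
    rw [Category.assoc, cokernel.π_desc]
    exact c.fac _ m
  ext {X f g} h := coequalizer.hom_ext (c.ext fun m => by
    have := h (Submodule.Quotient.mk m)
    change ((c.η m).out ≫ cokernel.π _) ≫ f = ((c.η m).out ≫ cokernel.π _) ≫ g at this
    simpa only [Category.assoc] using this)

theorem nonempty_corep (M : Type u) [AddCommGroup M] [Module A M] [Module.FinitePresentation A M] :
    Nonempty (Corep κ M) := by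
  obtain ⟨n, L, e, hL⟩ := Module.FinitePresentation.exists_fin A M
  obtain ⟨m, r, hr⟩ := Submodule.fg_iff_exists_fin_generating_family.mp hL
  subst hr
  exact ⟨Corep.ofEquiv κ (Corep.quot κ (corepFree κ n) r) e⟩

variable (A) in
/-- Finitely presented modules. -/
abbrev FP := ObjectProperty.FullSubcategory
  (fun M : ModuleCat.{u} A => Module.FinitePresentation A M)

instance (M : FP A) : Module.FinitePresentation A M.obj := M.property

/-- A chosen corepresenting object. -/
noncomputable def corep (M : FP A) : Corep κ M.obj := (nonempty_corep κ M.obj).some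

/-- The functor. -/
noncomputable def func : FP A ⥤ B where
  obj M := (corep κ M).pt
  map {M N} f := (corep κ M).desc ((corep κ N).η ∘ₗ f.hom.hom)
  map_id M := (corep κ M).ext fun m => by rw [Corep.fac, Category.comp_id]; rfl
  map_comp {M N P} f g := (corep κ M).ext fun m => by
    rw [Corep.fac, ← Category.assoc, Corep.fac]
    exact ((corep κ N).fac ((corep κ P).η ∘ₗ g.hom.hom) (f.hom.hom m)).symm

theorem fac_map {M N : FP A} (f : M ⟶ N) (m : M.obj) :
    ((corep κ M).η m).out ≫ (func κ).map f = ((corep κ N).η (f.hom.hom m)).out :=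
  Corep.fac _ _ _

instance : (func κ).PreservesZeroMorphisms where
  map_zero M N := (corep κ M).ext fun m => by
    exact (fac_map κ 0 m).trans
      ((congrArg (HomM.out κ) (map_zero (corep κ N).η)).trans comp_zero.symm)

/-- The finitely presented modules. -/
abbrev fp (M : Type u) [AddCommGroup M] [Module A M] [h : Module.FinitePresentation A M] : FP A :=
  ⟨ModuleCat.of A M, h⟩

instance : HasZeroObject (FP A) :=
  ⟨fp (A := A) PUnit.{u + 1}, by
    constructor
    · intro Y
      refine ⟨⟨⟨0⟩, fun g => ObjectProperty.hom_ext _ (ModuleCat.hom_ext ?_)⟩⟩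
      exact LinearMap.ext fun x => by
        rw [Subsingleton.elim x 0, map_zero, map_zero]
    · intro Y
      refine ⟨⟨⟨0⟩, fun g => ObjectProperty.hom_ext _ (ModuleCat.hom_ext ?_)⟩⟩
      exact LinearMap.ext fun x => Subsingleton.elim (α := PUnit.{u + 1}) _ _⟩

instance : HasBinaryCoproducts (FP A) := by
  refine @hasBinaryCoproducts_of_hasColimit_pair _ _ fun {M N} => ?_
  refine HasColimit.mk ⟨BinaryCofan.mk
    (ObjectProperty.homMk (ModuleCat.ofHom (LinearMap.inl A M.obj N.obj)) : M ⟶ fp (M.obj × N.obj))
    (ObjectProperty.homMk (ModuleCat.ofHom (LinearMap.inr A M.obj N.obj))), ?_⟩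
  refine BinaryCofan.IsColimit.mk _
    (fun f g => ObjectProperty.homMk (ModuleCat.ofHom (LinearMap.coprod f.hom.hom g.hom.hom)))
    (fun f g => ?_) (fun f g => ?_) (fun f g m h₁ h₂ => ?_)
  · exact ObjectProperty.hom_ext _ (ModuleCat.hom_ext (LinearMap.coprod_inl _ _))
  · exact ObjectProperty.hom_ext _ (ModuleCat.hom_ext (LinearMap.coprod_inr _ _))
  · subst h₁ h₂
    exact ObjectProperty.hom_ext _ (ModuleCat.hom_ext
      (LinearMap.coprod_comp_inl_inr m.hom.hom).symm)

instance : HasBinaryBiproducts (FP A) := HasBinaryBiproducts.of_hasBinaryCoproducts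

instance : HasInitial (FP A) := HasZeroObject.hasInitial

instance : HasFiniteCoproducts (FP A) := hasFiniteCoproducts_of_has_binary_and_initial

theorem fp_quot {M N : FP A} (f : M ⟶ N) :
    Module.FinitePresentation A (N.obj ⧸ LinearMap.range f.hom.hom) :=
  Module.finitePresentation_of_surjective _ (Submodule.mkQ_surjective _) (by
    rw [Submodule.ker_mkQ]
    exact LinearMap.range_eq_map f.hom.hom ▸ (Module.Finite.fg_top).map _)

/-- The cokernel cofork. -/
def coker {M N : FP A} (f : M ⟶ N) : CokernelCofork f :=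
  CokernelCofork.ofπ (Z := (⟨ModuleCat.of A (N.obj ⧸ LinearMap.range f.hom.hom), fp_quot f⟩ : FP A))
    (ObjectProperty.homMk (ModuleCat.ofHom (Submodule.mkQ (LinearMap.range f.hom.hom))))
    (by
      refine ObjectProperty.hom_ext _ (ModuleCat.hom_ext (LinearMap.ext fun x => ?_))
      exact (Submodule.Quotient.mk_eq_zero _).mpr ⟨x, rfl⟩)

/-- It is a colimit. -/
def isColimitCoker {M N : FP A} (f : M ⟶ N) : IsColimit (coker f) :=
  CokernelCofork.IsColimit.ofπ _ (coker f).condition
    (fun g hg => ObjectProperty.homMk (ModuleCat.ofHom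
      (Submodule.liftQ _ g.hom.hom (LinearMap.range_le_ker_iff.mpr
        (congrArg (fun φ => φ.hom.hom) hg)))))
    (fun g hg => ObjectProperty.hom_ext _ (ModuleCat.hom_ext (Submodule.liftQ_mkQ _ _ _)))
    (fun g hg m hm => ObjectProperty.hom_ext _ (ModuleCat.hom_ext (LinearMap.ext fun q => by
      obtain ⟨x, rfl⟩ := Submodule.Quotient.mk_surjective _ q
      exact congrArg (fun φ => φ.hom.hom x) hm)))

instance : HasCokernels (FP A) where
  has_colimit f := HasColimit.mk ⟨_, isColimitCoker f⟩

instance : HasCoequalizers (FP A) := Preadditive.hasCoequalizers_of_hasCokernels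

instance {M N : FP A} (f : M ⟶ N) : PreservesColimit (parallelPair f 0) (func κ) := by
  refine preservesColimit_of_preserves_colimit_cocone (isColimitCoker f) ?_
  refine (isColimitMapCoconeCoforkEquiv' (func κ) (coker f).condition).symm ?_
  refine CokernelCofork.IsColimit.ofπ _ _
    (fun {X} g hg => (corep κ _).desc
      ((LinearMap.range f.hom.hom).liftQ (post κ g ∘ₗ (corep κ N).η) (by
        rintro _ ⟨m, rfl⟩
        change ((corep κ N).η (f.hom.hom m)).out ≫ g = 0
        exact (congrArg (· ≫ g) (fac_map κ f m).symm).trans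
          ((Category.assoc _ _ _).trans ((congrArg _ hg).trans comp_zero)))))
    (fun g hg => (corep κ N).ext fun n => ?_)
    (fun g hg m hm => (corep κ _).ext fun q => ?_)
  · refine ((Category.assoc _ _ _).symm.trans (congrArg (· ≫ _) (fac_map κ _ n))).trans ?_
    exact Corep.fac _ _ _
  · obtain ⟨n, rfl⟩ := Submodule.Quotient.mk_surjective _ q
    refine Eq.trans ?_ (Corep.fac _ _ _).symm
    refine (congrArg (· ≫ m) (fac_map κ (coker f).π n)).symm.trans ?_
    exact (Category.assoc _ _ _).trans (congrArg _ hm)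

instance : PreservesFiniteColimits (func κ) := by
  have : HasZeroObject B := inferInstance
  exact Functor.preservesFiniteColimits_of_preservesCokernels _

/-- The value on the ring. -/
noncomputable def unitIso : (func κ).obj (fp A) ≅ K where
  hom := (corep κ (fp A)).desc (LinearMap.toSpanSingleton A _ (HomM.mk κ (𝟙 K)))
  inv := ((corep κ (fp A)).η (1 : A)).out
  hom_inv_id := (corep κ (fp A)).ext fun a => by
    refine ((Category.assoc _ _ _).symm.trans (congrArg (· ≫ _) (Corep.fac _ _ _))).trans ?_
    refine Eq.trans ?_ (Category.comp_id _).symm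
    refine (congrArg (· ≫ _) (Category.comp_id (κ a))).trans ?_
    refine Eq.trans ?_ (congrArg (fun x => ((corep κ (fp A)).η x).out) (mul_one a))
    exact (congrArg (HomM.out κ) ((corep κ (fp A)).η.map_smul a (1 : A))).symm
  inv_hom_id := by
    refine (Corep.fac _ _ _).trans ?_
    change κ 1 ≫ 𝟙 K = _
    rw [map_one]
    exact Category.id_comp _

theorem main : ∃ (F : FP A ⥤ B) (_ : PreservesFiniteColimits F) (e : F.obj (fp A) ≅ K),
    ∀ a : A, F.map (ObjectProperty.homMk (ModuleCat.ofHom (LinearMap.lsmul A A a)) :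
      fp A ⟶ fp A) ≫ e.hom = e.hom ≫ κ a := by
  refine ⟨func κ, inferInstance, unitIso κ, fun a => (corep κ (fp A)).ext fun x => ?_⟩
  refine ((Category.assoc _ _ _).symm.trans (congrArg (· ≫ _) (fac_map κ _ x))).trans ?_
  refine ((corep κ (fp A)).fac _ _).trans ?_
  refine Eq.trans ?_ ((congrArg (· ≫ κ a) ((corep κ (fp A)).fac _ _).symm).trans
    (Category.assoc _ _ _))
  change κ (a * x) ≫ 𝟙 K = (κ x ≫ 𝟙 K) ≫ κ a
  rw [Category.comp_id, Category.comp_id, map_mul]
  rfl

end Groth.FPFunctor
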